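import Mathlib

/-!
# Quadratic forms on `ℝⁿ` given by a matrix: elementary identities (helper5)
-/

set_option autoImplicit false
open Matrix

namespace Groth.Agent.Lib.Helper5.QuadMax

variable {n : ℕ} (B : Matrix (Fin n) (Fin n) ℝ)

/-- the bilinear form `x ⬝ᵥ B *ᵥ y` -/
def bil (x y : Fin n → ℝ) : ℝ := x ⬝ᵥ B *ᵥ y

/-- twice the symmetrised bilinear form -/
def sbil (x y : Fin n → ℝ) : ℝ := bil B x y + bil B y x

theorem bil_add_left (x x' y : Fin n → ℝ) : bil B (x + x') y = bil B x y + bil B x' y := by
  simp [bil, add_dotProduct]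

theorem bil_add_right (x y y' : Fin n → ℝ) : bil B x (y + y') = bil B x y + bil B x y' := by
  simp [bil, mulVec_add, dotProduct_add]

theorem bil_smul_left (c : ℝ) (x y : Fin n → ℝ) : bil B (c • x) y = c * bil B x y := by
  simp [bil, smul_dotProduct]

theorem bil_smul_right (c : ℝ) (x y : Fin n → ℝ) : bil B x (c • y) = c * bil B x y := by
  simp [bil, mulVec_smul, dotProduct_smul]

theorem bil_sub_right (x y y' : Fin n → ℝ) : bil B x (y - y') = bil B x y - bil B x y' := by
  simp [bil, mulVec_sub, dotProduct_sub]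

theorem bil_sub_left (x x' y : Fin n → ℝ) : bil B (x - x') y = bil B x y - bil B x' y := by
  simp [bil, sub_dotProduct]

theorem bil_eq_sum (x y : Fin n → ℝ) : bil B x y = ∑ i, ∑ j, x i * B i j * y j := by
  simp only [bil, dotProduct, mulVec, Finset.mul_sum, mul_assoc]

theorem sbil_comm (x y : Fin n → ℝ) : sbil B x y = sbil B y x := by
  simp [sbil, add_comm]

theorem sbil_self (x : Fin n → ℝ) : sbil B x x = 2 * bil B x x := by
  simp [sbil, two_mul]

theorem sbil_add_right (x y y' : Fin n → ℝ) : sbil B x (y + y') = sbil B x y + sbil B x y' := by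
  simp [sbil, bil_add_left, bil_add_right]; ring

theorem sbil_sub_right (x y y' : Fin n → ℝ) : sbil B x (y - y') = sbil B x y - sbil B x y' := by
  simp [sbil, bil_sub_left, bil_sub_right]; ring

theorem sbil_smul_right (c : ℝ) (x y : Fin n → ℝ) : sbil B x (c • y) = c * sbil B x y := by
  simp [sbil, bil_smul_left, bil_smul_right]; ring

theorem sbil_smul_left (c : ℝ) (x y : Fin n → ℝ) : sbil B (c • x) y = c * sbil B x y := by
  simp [sbil, bil_smul_left, bil_smul_right]; ring

/-- expansion of the quadratic form along a line -/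
theorem bil_add_smul (x y : Fin n → ℝ) (t : ℝ) :
    bil B (x + t • y) (x + t • y) = bil B x x + t * sbil B x y + t ^ 2 * bil B y y := by
  simp [sbil, bil_add_left, bil_add_right, bil_smul_left, bil_smul_right]; ring

theorem sbil_single (x : Fin n → ℝ) (i : Fin n) :
    sbil B x (Pi.single i 1) = ∑ j, (B i j + B j i) * x j := by
  simp only [sbil, bil_eq_sum]
  have h1 : ∑ a, ∑ j, x a * B a j * (Pi.single i 1 : Fin n → ℝ) j = ∑ a, x a * B a i := by
    refine Finset.sum_congr rfl fun a _ => ?_
    rw [Finset.sum_eq_single i]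
    · simp
    · intro j _ hj; simp [Pi.single_apply, hj]
    · intro h; exact absurd (Finset.mem_univ i) h
  have h2 : ∑ a, ∑ j, (Pi.single i 1 : Fin n → ℝ) a * B a j * x j = ∑ j, B i j * x j := by
    rw [Finset.sum_eq_single i]
    · simp
    · intro a _ ha; simp [Pi.single_apply, ha]
    · intro h; exact absurd (Finset.mem_univ i) h
  rw [h1, h2, ← Finset.sum_add_distrib]
  refine Finset.sum_congr rfl fun j _ => ?_
  ring

/-- `sbil x d = ∑ i, d i * sbil x e_i` -/
theorem sbil_eq_sum_single (x d : Fin n → ℝ) :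
    sbil B x d = ∑ i, d i * sbil B x (Pi.single i 1) := by
  have hd : d = ∑ i, d i • (Pi.single i (1 : ℝ) : Fin n → ℝ) := by
    ext j
    simp [Finset.sum_apply, Pi.single_apply]
  conv_lhs => rw [hd]
  have : ∀ (s : Finset (Fin n)), sbil B x (∑ i ∈ s, d i • (Pi.single i (1 : ℝ) : Fin n → ℝ)) =
      ∑ i ∈ s, d i * sbil B x (Pi.single i 1) := by
    intro s
    induction s using Finset.induction_on with
    | empty => simp [sbil, bil]
    | insert a s ha ih =>
      rw [Finset.sum_insert ha, Finset.sum_insert ha, sbil_add_right, sbil_smul_right, ih]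
  exact this _

/-- for a positive semidefinite form, an isotropic vector is in the kernel -/
theorem sbil_eq_zero_of_psd (hnn : ∀ y : Fin n → ℝ, 0 ≤ bil B y y) (d : Fin n → ℝ)
    (hd : bil B d d = 0) (u : Fin n → ℝ) : sbil B u d = 0 := by
  by_contra hne
  have h := hnn (u + (-(bil B u u + 1) / sbil B u d) • d)
  rw [bil_add_smul, hd, mul_zero, add_zero, div_mul_cancel₀ _ hne] at h
  linarith

end Groth.Agent.Lib.Helper5.QuadMax
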