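import Mathlib
import Groth.Agent.Lib.Helper5.QuadMax.Quad

/-!
# First order conditions for the maximum of `ℓ·y / √q(y)` on the orthant (helper5)
-/

set_option autoImplicit false
open Matrix

namespace Groth.Agent.Lib.Helper5.QuadMax

variable {n : ℕ} (B : Matrix (Fin n) (Fin n) ℝ) (ℓ : Fin n → ℝ)

/-- the objective function -/
noncomputable def obj (y : Fin n → ℝ) : ℝ := ℓ ⬝ᵥ y / Real.sqrt (bil B y y)

theorem obj_smul (c : ℝ) (hc : 0 < c) (y : Fin n → ℝ) : obj B ℓ (c • y) = obj B ℓ y := by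
  unfold obj
  rw [dotProduct_smul, bil_smul_left, bil_smul_right, ← mul_assoc, ← sq,
    Real.sqrt_mul (sq_nonneg c), Real.sqrt_sq hc.le, smul_eq_mul]
  by_cases h : Real.sqrt (bil B y y) = 0
  · simp [h]
  · field_simp

theorem nonneg_of_forall_small {δ h₁ h₂ : ℝ} (hδ : 0 < δ)
    (h : ∀ t, 0 < t → t < δ → 0 ≤ t * h₁ + t ^ 2 * h₂) : 0 ≤ h₁ := by
  by_contra hneg
  push Not at hneg
  set t := min (δ / 2) (-h₁ / (2 * (|h₂| + 1))) with ht
  have hpos2 : 0 < 2 * (|h₂| + 1) := by positivity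
  have ht0 : 0 < t := lt_min (by linarith) (div_pos (by linarith) hpos2)
  have htδ : t < δ := lt_of_le_of_lt (min_le_left _ _) (by linarith)
  have ht2 : t * (|h₂| + 1) ≤ -h₁ / 2 := by
    have h3 : t ≤ -h₁ / (2 * (|h₂| + 1)) := min_le_right _ _
    have h4 := mul_le_mul_of_nonneg_right h3 (show 0 ≤ |h₂| + 1 by positivity)
    have h5 : -h₁ / (2 * (|h₂| + 1)) * (|h₂| + 1) = -h₁ / 2 := by
      field_simp
    linarith
  have h6 := h t ht0 htδ
  have h7 : t ^ 2 * h₂ ≤ t * (t * |h₂|) := by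
    rw [sq, mul_assoc]
    exact mul_le_mul_of_nonneg_left (mul_le_mul_of_nonneg_left (le_abs_self _) ht0.le) ht0.le
  have h8 : t * |h₂| ≤ -h₁ / 2 := by nlinarith [abs_nonneg h₂]
  have h9 : t * (t * |h₂|) ≤ t * (-h₁ / 2) := mul_le_mul_of_nonneg_left h8 ht0.le
  nlinarith

/-- one-sided first order condition at a maximiser along a feasible direction -/
theorem foc_le (hpos : ∀ y : Fin n → ℝ, (∀ i, 0 ≤ y i) → y ≠ 0 → 0 < bil B y y)
    (ys : Fin n → ℝ) (hL : 0 < ℓ ⬝ᵥ ys) (hq : 0 < bil B ys ys)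
    (hmax : ∀ y : Fin n → ℝ, (∀ i, 0 ≤ y i) → y ≠ 0 → obj B ℓ y ≤ obj B ℓ ys)
    (e : Fin n → ℝ) (δ : ℝ) (hδ : 0 < δ)
    (hfeas : ∀ t, 0 < t → t < δ → ∀ i, 0 ≤ (ys + t • e) i) :
    bil B ys ys * (ℓ ⬝ᵥ e) * 2 ≤ (ℓ ⬝ᵥ ys) * sbil B ys e := by
  set a := ℓ ⬝ᵥ ys with ha
  set Q := bil B ys ys with hQ
  set Le := ℓ ⬝ᵥ e with hLe
  set s := sbil B ys e with hs
  set qe := bil B e e with hqe
  set δ' := min δ (a / (|Le| + 1)) with hδ'
  have hδ'pos : 0 < δ' := lt_min hδ (div_pos hL (by positivity))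
  have key : ∀ t, 0 < t → t < δ' → 0 ≤ t * (a * (a * s - 2 * Q * Le)) + t ^ 2 * (a ^ 2 * qe - Q * Le ^ 2) := by
    intro t ht0 htδ
    have htδ1 : t < δ := lt_of_lt_of_le htδ (min_le_left _ _)
    have htδ2 : t < a / (|Le| + 1) := lt_of_lt_of_le htδ (min_le_right _ _)
    have hLt : ℓ ⬝ᵥ (ys + t • e) = a + t * Le := by
      rw [dotProduct_add, dotProduct_smul, smul_eq_mul]
    have hLtpos : 0 < a + t * Le := by
      have h1 : t * (|Le| + 1) < a := by
        rwa [lt_div_iff₀ (by positivity)] at htδ2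
      have h2 : -(t * |Le|) ≤ t * Le := by
        have := neg_abs_le Le
        nlinarith
      nlinarith [abs_nonneg Le]
    have hne : ys + t • e ≠ 0 := by
      intro h0
      rw [h0, dotProduct_zero] at hLt
      linarith
    have hfe := hfeas t ht0 htδ1
    have hqt : 0 < bil B (ys + t • e) (ys + t • e) := hpos _ hfe hne
    have hle := hmax _ hfe hne
    unfold obj at hle
    rw [hLt, ← ha, ← hQ, div_le_div_iff₀ (Real.sqrt_pos.mpr hqt) (Real.sqrt_pos.mpr hq)] at hle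
    have hsq : ((a + t * Le) * Real.sqrt Q) ^ 2 ≤ (a * Real.sqrt (bil B (ys + t • e) (ys + t • e))) ^ 2 :=
      pow_le_pow_left₀ (by positivity) hle 2
    rw [mul_pow, mul_pow, Real.sq_sqrt hq.le, Real.sq_sqrt hqt.le, bil_add_smul] at hsq
    rw [← hQ, ← hs, ← hqe] at hsq
    nlinarith
  have h1 := nonneg_of_forall_small hδ'pos key
  have h2 : 0 ≤ a * s - 2 * Q * Le := by
    by_contra hneg
    push Not at hneg
    nlinarith
  linarith

end Groth.Agent.Lib.Helper5.QuadMax
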