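import Mathlib

/-!
# Rational approximation of real solutions of rational homogeneous linear systems (helper5)
-/

set_option autoImplicit false
open Matrix

namespace Groth.Agent.Lib.Helper5.QuadMax

/-- A real solution of a homogeneous linear system with rational coefficients can be approximated
by rational solutions. -/
theorem exists_rat_approx_of_mulVec_eq_zero {ι κ : Type*} [Fintype ι] [Fintype κ]
    (N : Matrix κ ι ℚ) (v : ι → ℝ)
    (hv : ∀ i, ∑ j, (N i j : ℝ) * v j = 0) (ε : ℝ) (hε : 0 < ε) :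
    ∃ w : ι → ℚ, (∀ i, ∑ j, N i j * w j = 0) ∧ ∀ j, |(w j : ℝ) - v j| < ε := by
  classical
  let W : Submodule ℚ ℝ := Submodule.span ℚ (Set.range v)
  haveI : Module.Finite ℚ W := Module.Finite.span_of_finite ℚ (Set.finite_range v)
  let b := Module.finBasis ℚ W
  have hvW : ∀ j, v j ∈ W := fun j => Submodule.subset_span ⟨j, rfl⟩
  let a : ι → Fin (Module.finrank ℚ W) → ℚ := fun j k => b.repr ⟨v j, hvW j⟩ k
  have hva : ∀ j, v j = ∑ k, (a j k : ℝ) * (b k : ℝ) := by
    intro j
    have h1 := b.sum_repr ⟨v j, hvW j⟩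
    have h2 := congrArg (Subtype.val) h1
    simp only [Submodule.coe_sum, Submodule.coe_smul] at h2
    rw [← h2]
    refine Finset.sum_congr rfl fun k _ => ?_
    rw [Rat.smul_def]
  have hkey : ∀ i k, ∑ j, N i j * a j k = 0 := by
    intro i
    have h0 : ∑ k, (∑ j, N i j * a j k) • b k = 0 := by
      apply Subtype.ext
      simp only [Submodule.coe_sum, Submodule.coe_smul, Submodule.coe_zero]
      have h3 := hv i
      simp_rw [hva, Finset.mul_sum] at h3
      rw [Finset.sum_comm] at h3
      rw [← h3]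
      refine Finset.sum_congr rfl fun k _ => ?_
      rw [Rat.smul_def, Rat.cast_sum, Finset.sum_mul]
      refine Finset.sum_congr rfl fun j _ => ?_
      push_cast
      ring
    exact Fintype.linearIndependent_iff.mp b.linearIndependent _ h0
  -- choose rational approximations of the basis elements
  set A : ℝ := ∑ j, ∑ k, |(a j k : ℝ)| + 1 with hA
  have hApos : 0 < A := by
    have : 0 ≤ ∑ j, ∑ k, |(a j k : ℝ)| :=
      Finset.sum_nonneg fun j _ => Finset.sum_nonneg fun k _ => abs_nonneg _
    linarith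
  have hδ : 0 < ε / A := div_pos hε hApos
  have hc : ∀ k, ∃ c' : ℚ, |(c' : ℝ) - (b k : ℝ)| < ε / A := by
    intro k
    obtain ⟨c', h1, h2⟩ := exists_rat_btwn (show (b k : ℝ) - ε / A < (b k : ℝ) + ε / A by linarith)
    exact ⟨c', by rw [abs_lt]; constructor <;> linarith⟩
  choose c' hc' using hc
  refine ⟨fun j => ∑ k, a j k * c' k, ?_, ?_⟩
  · intro i
    simp_rw [Finset.mul_sum]
    rw [Finset.sum_comm]
    refine Finset.sum_eq_zero fun k _ => ?_
    have := hkey i k
    simp_rw [← mul_assoc]
    rw [← Finset.sum_mul, this, zero_mul]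
  · intro j
    have h1 : ((∑ k, a j k * c' k : ℚ) : ℝ) - v j = ∑ k, (a j k : ℝ) * ((c' k : ℝ) - (b k : ℝ)) := by
      rw [hva j]
      push_cast
      rw [← Finset.sum_sub_distrib]
      refine Finset.sum_congr rfl fun k _ => ?_
      ring
    rw [h1]
    calc |∑ k, (a j k : ℝ) * ((c' k : ℝ) - (b k : ℝ))|
        ≤ ∑ k, |(a j k : ℝ) * ((c' k : ℝ) - (b k : ℝ))| := Finset.abs_sum_le_sum_abs _ _
      _ ≤ ∑ k, |(a j k : ℝ)| * (ε / A) := by
          refine Finset.sum_le_sum fun k _ => ?_
          rw [abs_mul]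
          exact mul_le_mul_of_nonneg_left (hc' k).le (abs_nonneg _)
      _ = (∑ k, |(a j k : ℝ)|) * (ε / A) := by rw [Finset.sum_mul]
      _ ≤ (∑ j, ∑ k, |(a j k : ℝ)|) * (ε / A) := by
          refine mul_le_mul_of_nonneg_right ?_ hδ.le
          exact Finset.single_le_sum (f := fun j => ∑ k, |(a j k : ℝ)|)
            (fun j _ => Finset.sum_nonneg fun k _ => abs_nonneg _) (Finset.mem_univ j)
      _ < A * (ε / A) := by
          refine mul_lt_mul_of_pos_right ?_ hδ
          rw [hA]; linarith
      _ = ε := by field_simp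

end Groth.Agent.Lib.Helper5.QuadMax
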