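import Mathlib
import Groth.Agent.Lib.Helper5.QuadMax.RatApprox
import Groth.Agent.Lib.Helper5.QuadMax.Foc

/-!
# A rational maximiser of `ℓ·y / √q(y)` on the orthant (helper5)
-/

set_option autoImplicit false
open Matrix

namespace Groth.Agent.Lib.Helper5.QuadMax

variable {n : ℕ}

/-- existence of a (real) maximiser -/
theorem exists_max (B : Matrix (Fin n) (Fin n) ℝ) (ℓ : Fin n → ℝ)
    (hpos : ∀ y : Fin n → ℝ, (∀ i, 0 ≤ y i) → y ≠ 0 → 0 < bil B y y)
    (hℓ : ∃ y : Fin n → ℝ, (∀ i, 0 ≤ y i) ∧ 0 < ℓ ⬝ᵥ y) :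
    ∃ ys : Fin n → ℝ, (∀ i, 0 ≤ ys i) ∧ 0 < ℓ ⬝ᵥ ys ∧
      ∀ y : Fin n → ℝ, (∀ i, 0 ≤ y i) → y ≠ 0 → obj B ℓ y ≤ obj B ℓ ys := by
  obtain ⟨y₀, hy₀, hLy₀⟩ := hℓ
  have hnorm : ∀ y : Fin n → ℝ, (∀ i, 0 ≤ y i) → y ≠ 0 → 0 < ∑ i, y i := by
    intro y hy hne
    obtain ⟨i, hi⟩ : ∃ i, y i ≠ 0 := by
      by_contra h
      push Not at h
      exact hne (funext h)
    exact Finset.sum_pos' (fun i _ => hy i) ⟨i, Finset.mem_univ i, lt_of_le_of_ne (hy i) (Ne.symm hi)⟩
  have hmem : ∀ y : Fin n → ℝ, (∀ i, 0 ≤ y i) → y ≠ 0 → (∑ i, y i)⁻¹ • y ∈ stdSimplex ℝ (Fin n) := by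
    intro y hy hne
    have hs := hnorm y hy hne
    refine ⟨fun i => ?_, ?_⟩
    · exact mul_nonneg (inv_nonneg.mpr hs.le) (hy i)
    · simp only [Pi.smul_apply, smul_eq_mul, ← Finset.mul_sum]
      exact inv_mul_cancel₀ hs.ne'
  have hy₀ne : y₀ ≠ 0 := by
    intro h; rw [h, dotProduct_zero] at hLy₀; exact lt_irrefl _ hLy₀
  have hne0 : ∀ y ∈ stdSimplex ℝ (Fin n), y ≠ 0 := by
    intro y hy h0
    have := hy.2
    rw [h0] at this
    simp at this
  have hcont : ContinuousOn (obj B ℓ) (stdSimplex ℝ (Fin n)) := by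
    unfold obj
    refine ContinuousOn.div ?_ ?_ ?_
    · exact (continuous_const.dotProduct continuous_id).continuousOn
    · refine Continuous.continuousOn (Real.continuous_sqrt.comp ?_)
      simp only [bil_eq_sum]
      fun_prop
    · intro y hy
      exact (Real.sqrt_pos.mpr (hpos y hy.1 (hne0 y hy))).ne'
  obtain ⟨ys, hys, hmax⟩ := (isCompact_stdSimplex ℝ (Fin n)).exists_isMaxOn
    ⟨_, hmem y₀ hy₀ hy₀ne⟩ hcont
  have hall : ∀ y : Fin n → ℝ, (∀ i, 0 ≤ y i) → y ≠ 0 → obj B ℓ y ≤ obj B ℓ ys := by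
    intro y hy hne
    have h1 : obj B ℓ ((∑ i, y i)⁻¹ • y) ≤ obj B ℓ ys := hmax (hmem y hy hne)
    rwa [obj_smul B ℓ _ (inv_pos.mpr (hnorm y hy hne))] at h1
  refine ⟨ys, hys.1, ?_, hall⟩
  have h2 := hall y₀ hy₀ hy₀ne
  have h3 : 0 < obj B ℓ y₀ := div_pos hLy₀ (Real.sqrt_pos.mpr (hpos y₀ hy₀ hy₀ne))
  have h4 : 0 < obj B ℓ ys := lt_of_lt_of_le h3 h2
  unfold obj at h4
  by_contra hle
  push Not at hle
  have := div_nonpos_of_nonpos_of_nonneg hle (Real.sqrt_nonneg (bil B ys ys))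
  linarith

/-- **the maximum of `ℓ·y / √q(y)` on the orthant is attained at a rational point** -/
theorem exists_rat_max (ℓ : Fin n → ℚ) (B : Matrix (Fin n) (Fin n) ℚ)
    (hnn : ∀ y : Fin n → ℝ, 0 ≤ bil (B.map (fun r : ℚ => (r : ℝ))) y y)
    (hpos : ∀ y : Fin n → ℝ, (∀ i, 0 ≤ y i) → y ≠ 0 →
      0 < bil (B.map (fun r : ℚ => (r : ℝ))) y y)
    (hℓ : ∃ y : Fin n → ℝ, (∀ i, 0 ≤ y i) ∧ 0 < (fun i => (ℓ i : ℝ)) ⬝ᵥ y) :
    ∃ x : Fin n → ℚ, (∀ i, 0 ≤ x i) ∧ x ≠ 0 ∧
      ∀ y : Fin n → ℝ, (∀ i, 0 ≤ y i) → y ≠ 0 →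
        obj (B.map (fun r : ℚ => (r : ℝ))) (fun i => (ℓ i : ℝ)) y ≤
          obj (B.map (fun r : ℚ => (r : ℝ))) (fun i => (ℓ i : ℝ)) (fun i => (x i : ℝ)) := by
  classical
  set BR : Matrix (Fin n) (Fin n) ℝ := B.map (fun r : ℚ => (r : ℝ)) with hBR
  set ℓR : Fin n → ℝ := fun i => (ℓ i : ℝ) with hℓR
  obtain ⟨ys, hys, hLys, hmax⟩ := exists_max BR ℓR hpos hℓ
  have hysne : ys ≠ 0 := by
    intro h; rw [h, dotProduct_zero] at hLys; exact lt_irrefl _ hLys
  have hQ : 0 < bil BR ys ys := hpos ys hys hysne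
  set μ := bil BR ys ys / (ℓR ⬝ᵥ ys) with hμ
  have hμpos : 0 < μ := div_pos hQ hLys
  -- first order conditions on the support
  have hfoc : ∀ i, 0 < ys i → sbil BR ys (Pi.single i 1) = 2 * μ * ℓR i := by
    intro i hi
    have hf1 : ∀ t, 0 < t → t < ys i → ∀ j, 0 ≤ (ys + t • (Pi.single i 1 : Fin n → ℝ)) j := by
      intro t ht0 _ j
      simp only [Pi.add_apply, Pi.smul_apply, smul_eq_mul]
      have : 0 ≤ (Pi.single i 1 : Fin n → ℝ) j := by
        by_cases hj : j = i
        · subst hj; simp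
        · simp [Pi.single_apply, hj]
      have := hys j
      positivity
    have hf2 : ∀ t, 0 < t → t < ys i → ∀ j, 0 ≤ (ys + t • (-(Pi.single i 1 : Fin n → ℝ))) j := by
      intro t ht0 ht j
      simp only [Pi.add_apply, Pi.smul_apply, smul_eq_mul, Pi.neg_apply]
      by_cases hj : j = i
      · subst hj; simp; linarith
      · simp [Pi.single_apply, hj]; exact hys j
    have h1 := foc_le BR ℓR hpos ys hLys hQ hmax (Pi.single i 1) (ys i) hi hf1
    have h2 := foc_le BR ℓR hpos ys hLys hQ hmax (-(Pi.single i 1)) (ys i) hi hf2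
    have e1 : ℓR ⬝ᵥ (Pi.single i 1 : Fin n → ℝ) = ℓR i := by simp
    have e2 : ℓR ⬝ᵥ (-(Pi.single i 1 : Fin n → ℝ)) = - ℓR i := by simp
    have e3 : sbil BR ys (-(Pi.single i 1 : Fin n → ℝ)) = - sbil BR ys (Pi.single i 1) := by
      have := sbil_smul_right BR (-1) ys (Pi.single i 1)
      simpa using this
    rw [e1] at h1
    rw [e2, e3] at h2
    have h3 : (ℓR ⬝ᵥ ys) * sbil BR ys (Pi.single i 1) = bil BR ys ys * ℓR i * 2 := by linarith
    rw [hμ]
    field_simp
    linarith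
  -- the rational linear system
  let N : Matrix (Fin n) (Option (Fin n)) ℚ := fun i o =>
    match o with
    | none => if 0 < ys i then -2 * ℓ i else 0
    | some j => if 0 < ys i then B i j + B j i else (if i = j then 1 else 0)
  let v : Option (Fin n) → ℝ := fun o =>
    match o with
    | none => μ
    | some j => ys j
  have hv : ∀ i, ∑ o, (N i o : ℝ) * v o = 0 := by
    intro i
    rw [Fintype.sum_option]
    by_cases hi : 0 < ys i
    · simp only [N, v, hi, if_true]
      have h1 := hfoc i hi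
      rw [sbil_single] at h1
      simp only [BR, Matrix.map_apply, ℓR] at h1
      push_cast
      linarith
    · simp only [N, v, hi, if_false]
      have h0 : ys i = 0 := le_antisymm (not_lt.mp hi) (hys i)
      rw [Finset.sum_eq_single i]
      · simp [h0]
      · intro b _ hb
        simp [Ne.symm hb]
      · intro h; exact absurd (Finset.mem_univ i) h
  let g : Option (Fin n) → ℝ := fun o =>
    match o with
    | none => μ
    | some j => if 0 < ys j then ys j else 1
  have hg : ∀ o, 0 < g o := by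
    intro o
    cases o with
    | none => exact hμpos
    | some j =>
      simp only [g]
      split_ifs with h
      · exact h
      · exact one_pos
  set ε := (Finset.univ.inf' ⟨none, Finset.mem_univ _⟩ g) / 2 with hε
  have hεpos : 0 < ε := by
    apply half_pos
    rw [Finset.lt_inf'_iff]
    intro o _
    exact hg o
  have hεle : ∀ o, 2 * ε ≤ g o := by
    intro o
    rw [hε, mul_div_cancel₀ _ (two_ne_zero)]
    exact Finset.inf'_le g (Finset.mem_univ o)
  obtain ⟨w, hw0, hwε⟩ := exists_rat_approx_of_mulVec_eq_zero N v hv ε hεpos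
  -- properties of the rational solution
  have hlam : (0 : ℝ) < (w none : ℝ) := by
    have h1 := hwε none
    have h2 := hεle none
    simp only [v, g] at h1 h2
    rw [abs_lt] at h1
    linarith
  have hxpos : ∀ i, 0 < ys i → (0 : ℝ) < (w (some i) : ℝ) := by
    intro i hi
    have h1 := hwε (some i)
    have h2 := hεle (some i)
    simp only [v, g, hi, if_true] at h1 h2
    rw [abs_lt] at h1
    linarith
  have hxzero : ∀ i, ¬ 0 < ys i → w (some i) = 0 := by
    intro i hi
    have h1 := hw0 i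
    rw [Fintype.sum_option] at h1
    simp only [N, hi, if_false, zero_mul, zero_add] at h1
    simpa using h1
  have hrow : ∀ i, 0 < ys i →
      ∑ j, ((B i j : ℝ) + (B j i : ℝ)) * (w (some j) : ℝ) = 2 * (ℓ i : ℝ) * (w none : ℝ) := by
    intro i hi
    have h1 := hw0 i
    rw [Fintype.sum_option] at h1
    simp only [N, hi, if_true] at h1
    have h2 := congrArg (Rat.cast : ℚ → ℝ) h1
    push_cast at h2
    linarith
  refine ⟨fun j => w (some j), ?_, ?_, ?_⟩
  · intro i
    by_cases hi : 0 < ys i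
    · have := hxpos i hi
      show (0 : ℚ) ≤ w (some i)
      exact_mod_cast this.le
    · show (0 : ℚ) ≤ w (some i)
      rw [hxzero i hi]
  · intro h0
    obtain ⟨i, hi⟩ : ∃ i, ys i ≠ 0 := by
      by_contra h
      push Not at h
      exact hysne (funext h)
    have hi' : 0 < ys i := lt_of_le_of_ne (hys i) (Ne.symm hi)
    have h1 := hxpos i hi'
    have h2 : w (some i) = 0 := congrFun h0 i
    rw [h2] at h1
    simp at h1
  · set xR : Fin n → ℝ := fun i => ((w (some i) : ℚ) : ℝ) with hxR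
    set c : ℝ := (w none : ℝ) / μ with hc
    have hcpos : 0 < c := div_pos hlam hμpos
    set d : Fin n → ℝ := xR - c • ys with hd
    have hd0 : ∀ i, ¬ 0 < ys i → d i = 0 := by
      intro i hi
      have h0 : ys i = 0 := le_antisymm (not_lt.mp hi) (hys i)
      simp [hd, hxR, hxzero i hi, h0]
    have hd1 : ∀ i, 0 < ys i → sbil BR d (Pi.single i 1) = 0 := by
      intro i hi
      rw [sbil_comm, hd, sbil_sub_right, sbil_smul_right, sbil_comm BR _ xR, sbil_comm BR _ ys,
        hfoc i hi, sbil_single]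
      have h1 := hrow i hi
      simp only [BR, Matrix.map_apply, hxR, ℓR]
      rw [h1, hc]
      field_simp
      ring
    have hqd : bil BR d d = 0 := by
      have h1 : sbil BR d d = 0 := by
        rw [sbil_eq_sum_single]
        refine Finset.sum_eq_zero fun i _ => ?_
        by_cases hi : 0 < ys i
        · rw [hd1 i hi, mul_zero]
        · rw [hd0 i hi, zero_mul]
      rw [sbil_self] at h1
      linarith
    have hker : ∀ u, sbil BR u d = 0 := sbil_eq_zero_of_psd BR hnn d hqd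
    have hxd : xR = c • ys + (1 : ℝ) • d := by
      rw [hd]; simp
    have hqx : bil BR xR xR = bil BR (c • ys) (c • ys) := by
      rw [hxd, bil_add_smul, hker, hqd]; ring
    have hLd : ℓR ⬝ᵥ d = 0 := by
      have h1 : (2 * μ) * (ℓR ⬝ᵥ d) = sbil BR ys d := by
        rw [sbil_eq_sum_single, dotProduct, Finset.mul_sum]
        refine Finset.sum_congr rfl fun i _ => ?_
        by_cases hi : 0 < ys i
        · rw [hfoc i hi]; ring
        · rw [hd0 i hi]; ring
      rw [hker] at h1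
      have : 2 * μ ≠ 0 := by positivity
      exact (mul_eq_zero.mp h1).resolve_left this
    have hLx : ℓR ⬝ᵥ xR = ℓR ⬝ᵥ (c • ys) := by
      rw [hxd, dotProduct_add, one_smul, hLd, add_zero]
    have hobj : obj BR ℓR xR = obj BR ℓR ys := by
      rw [← obj_smul BR ℓR c hcpos ys]
      unfold obj
      rw [hqx, hLx]
    intro y hy hyne
    rw [hobj]
    exact hmax y hy hyne

end Groth.Agent.Lib.Helper5.QuadMax
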